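import Cfsg.Prelude.Def_Sporadic
import Cfsg.Agent.H481.TBound
import Cfsg.Agent.OrdDiv.Table
import Cfsg.Agent.S0000
import Cfsg.Agent.S2065
import Cfsg.Agent.H454.Reg.Tools
import Cfsg.Agent.S4124
import Cfsg.Agent.S5758
import Cfsg.Agent.H826.RgF.Defs_m3
import Cfsg.Agent.H975.Cov.Main
import Cfsg.Agent.H172.TH.Uni_m3
import Cfsg.Agent.H905.SLProper
import Cfsg.Agent.FastGrp
import Cfsg.Agent.Prune
set_option linter.all false

section
prune_inst 0x7f00000000000000000000000000000000000000000000000000000000000000000000000000000000000000000000000000000000000000000000000000000000000000000000000000000000000000003fffffffffffffffffffffffffffbeffbdffffffff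

-- part: H370/Rg/OutJ
section
set_option linter.all false
open scoped Cfsg.Agent.FastGrp

/-!
# S3691: a simple group of order 175560 has trivial outer automorphism group (helper370 for helper997)
-/

set_option autoImplicit false

namespace Cfsg.Agent.H370.Rg

open Cfsg Cfsg.Agent.OrdDiv

universe u

theorem cands_j1 : (cands [(2, 3), (3, 1), (5, 1), (7, 1), (11, 1), (19, 1)] 175560).filter
    (fun g => Nat.beq (ordN g) 175560) = [Grp.j1] := by
  decide +kernel

/-- a simple group of order 175560 is `J1` -/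
theorem iso_j1 {S : Type u} [Group S] [Finite S] [IsSimpleGroup S] (h : Nat.card S = 175560) : Spor.IsoJ1 S := by
  have hna : ¬ ∀ a b : S, a * b = b * a := by
    intro hc
    have h1 : IsMulCommutative S := ⟨⟨hc⟩⟩
    have h2 : (Nat.card S).Prime := by
      let _ : CommGroup S := { (inferInstance : Group S) with mul_comm := hc }
      exact IsSimpleGroup.prime_card
    rw [h] at h2
    exact absurd h2 (by norm_num)
  obtain ⟨g, hg, hr⟩ := exists_real_filter table (Cfsg.Agent.S0000.result (G := S)) hna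
    (l := [(2, 3), (3, 1), (5, 1), (7, 1), (11, 1), (19, 1)]) (N := 175560) (by decide +kernel) (by rw [h])
    (fun n => Nat.beq n 175560) (by rw [h]; rfl)
  rw [cands_j1, List.mem_singleton] at hg
  subst hg
  exact hr

/-- this is `Cfsg.Agent.H997.Rg.OutJ1.{u}` -/
theorem outJ1 : ∀ (S : Type u) [Group S] [Finite S] [IsSimpleGroup S], Cfsg.IsJ1 S → Nat.card (Cfsg.Out S) = 1 := by
  intro S _ _ _ h
  obtain ⟨e⟩ := iso_j1 h.2
  rw [Cfsg.Agent.H934.OutB.card_out_congr e, Cfsg.Agent.S2065.result]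

end Cfsg.Agent.H370.Rg
end

-- part: H454/Reg/NotLe
section
set_option linter.all false

/-!
# S3691: the complement `B` of a maximal subgroup does not contain the socle (E0)
-/

set_option autoImplicit false

namespace Cfsg.Agent.H454.Reg

open Cfsg Subgroup

universe u

variable {G : Type u} [Group G] {T H B : Subgroup G}

/-- E0: `T` is not contained in the complement `B` of the maximal subgroup `H` -/
theorem Ex.not_le_right [Finite G] (h : Ex T H B) : ¬ T ≤ B := by
  have := h.simple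
  exact h.not_le_right_of Cfsg.Agent.S5758.result fun A _ _ _ _ hA hg => Cfsg.Agent.S4124.result hA hg

theorem Ex.toFac [Finite G] (h : Ex T H B) : Fac T H B := h.fac h.not_le_right

end Cfsg.Agent.H454.Reg
end

-- part: H735/Rg/LoEight
section
set_option linter.all false
open scoped Cfsg.Agent.FastGrp

/-!
# S3691, T8: isometry groups of dimension eight containing an element of large order dividing `q ^ 4 + 1` (helper735)
-/

set_option autoImplicit false
set_option linter.unusedSectionVars false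

namespace Cfsg.Agent.H735.Rg

open Module QuadraticMap Cfsg Cfsg.Geo Cfsg.Agent.LieClassical.OrthCore Cfsg.Agent.LieClassical.OrthTrans
  Cfsg.Agent.H955 Cfsg.Agent.H954.TSing Cfsg.Agent.H884.El Cfsg.Agent.H278.Cov Cfsg.Agent.H449.Reg
open Cfsg.Agent.H951 (fx cm Inv)
open Cfsg.Agent.LieClassical.OrthFinite (glEquiv glEquiv_apply)
open scoped MatrixGroups Matrix commutatorElement

universe v

section field

variable {ι : Type} [Fintype ι] [DecidableEq ι] {F : Type} [Field F] [Fintype F]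

theorem field_map {s : ℕ} {K : Subalgebra F (Matrix ι ι F)} (hK : IsFieldSubalgebra s K) (g : GL ι F) :
    IsFieldSubalgebra s (K.map (H912.conjAlg g : Matrix ι ι F →ₐ[F] Matrix ι ι F)) := by
  refine ⟨?_, ?_, ?_⟩
  · rintro _ ⟨x, hx, rfl⟩ _ ⟨y, hy, rfl⟩
    have h1 := congrArg (H912.conjAlg g) (hK.comm x hx y hy)
    rw [map_mul, map_mul] at h1
    exact h1
  · rintro _ ⟨x, hx, rfl⟩ h0
    obtain ⟨y, hy, hxy⟩ := hK.inv x hx (fun h => h0 (by rw [h]; exact map_zero (H912.conjAlg g)))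
    refine ⟨_, ⟨y, hy, rfl⟩, ?_⟩
    have h1 := congrArg (H912.conjAlg g) hxy
    rw [map_mul, map_one] at h1
    exact h1
  · have e := (Subalgebra.equivMapOfInjective K (H912.conjAlg g : Matrix ι ι F →ₐ[F] Matrix ι ι F)
      (H912.conjAlg g).injective).toLinearEquiv
    rw [← hK.finrank_eq]
    exact e.finrank_eq.symm

/-- a field normalised by a normal subgroup with an irreducible element of order prime to the degree is normalised by the
group -/
theorem le_normalizer [Nonempty ι] {s : ℕ} {K : Subalgebra F (Matrix ι ι F)} (hK : IsFieldSubalgebra s K)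
    {N H : Subgroup (GL ι F)} (hN : ∀ h ∈ H, ∀ x ∈ N, h * x * h⁻¹ ∈ N) (hNK : N ≤ subalgebraNormalizer K) {y : GL ι F}
    (hy : y ∈ N) (ho : Nat.Coprime (orderOf y) s)
    (hirr : ∀ W : Submodule F (ι → F), (∀ v ∈ W, (y : Matrix ι ι F) *ᵥ v ∈ W) → W = ⊥ ∨ W = ⊤) :
    H ≤ subalgebraNormalizer K := by
  have hc : ∀ x ∈ K, (y : Matrix ι ι F) * x = x * (y : Matrix ι ι F) :=
    H975.Cov.comm_field' hK (hNK hy) ho (pow_orderOf_eq_one y)
  intro h hh
  apply H912.mem_subalgebraNormalizer_of_forall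
  have h1 : h⁻¹ * y * h ∈ N := by
    have h2 := hN h⁻¹ (H.inv_mem hh) y hy
    rwa [inv_inv] at h2
  have ho' : orderOf (h⁻¹ * y * h) = orderOf y := by
    have h2 := MulEquiv.orderOf_eq (MulAut.conj h⁻¹) y
    rw [MulAut.conj_apply, inv_inv] at h2
    exact h2
  have hc' : ∀ x ∈ K, ((h⁻¹ * y * h : GL ι F) : Matrix ι ι F) * x = x * ((h⁻¹ * y * h : GL ι F) : Matrix ι ι F) :=
    H975.Cov.comm_field' hK (hNK h1) (by rw [ho']; exact ho) (pow_orderOf_eq_one _)
  have key : K.map (H912.conjAlg h : Matrix ι ι F →ₐ[F] Matrix ι ι F) = K := by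
    refine H172.TH.field_unique hirr (field_map hK h) hK ?_ hc
    rintro _ ⟨x, hx, rfl⟩
    show (y : Matrix ι ι F) * ((h : Matrix ι ι F) * x * ((h⁻¹ : GL ι F) : Matrix ι ι F)) =
      ((h : Matrix ι ι F) * x * ((h⁻¹ : GL ι F) : Matrix ι ι F)) * (y : Matrix ι ι F)
    have h2 := hc' x hx
    rw [Units.val_mul, Units.val_mul] at h2
    have h3 : (h : Matrix ι ι F) * ((h⁻¹ : GL ι F) : Matrix ι ι F) = 1 := by
      rw [← Units.val_mul, mul_inv_cancel, Units.val_one]
    have h4 := congrArg (fun M => (h : Matrix ι ι F) * M * ((h⁻¹ : GL ι F) : Matrix ι ι F)) h2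
    beta_reduce at h4
    calc (y : Matrix ι ι F) * ((h : Matrix ι ι F) * x * ((h⁻¹ : GL ι F) : Matrix ι ι F))
        = ((h : Matrix ι ι F) * ((h⁻¹ : GL ι F) : Matrix ι ι F)) * (y : Matrix ι ι F) *
            ((h : Matrix ι ι F) * x * ((h⁻¹ : GL ι F) : Matrix ι ι F)) := by rw [h3, Matrix.one_mul]
      _ = (h : Matrix ι ι F) * (((h⁻¹ : GL ι F) : Matrix ι ι F) * (y : Matrix ι ι F) * (h : Matrix ι ι F) * x) *
            ((h⁻¹ : GL ι F) : Matrix ι ι F) := by simp only [Matrix.mul_assoc]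
      _ = (h : Matrix ι ι F) * (x * (((h⁻¹ : GL ι F) : Matrix ι ι F) * (y : Matrix ι ι F) * (h : Matrix ι ι F))) *
            ((h⁻¹ : GL ι F) : Matrix ι ι F) := by rw [h2]
      _ = (h : Matrix ι ι F) * x * ((h⁻¹ : GL ι F) : Matrix ι ι F) * (y : Matrix ι ι F) *
            ((h : Matrix ι ι F) * ((h⁻¹ : GL ι F) : Matrix ι ι F)) := by simp only [Matrix.mul_assoc]
      _ = ((h : Matrix ι ι F) * x * ((h⁻¹ : GL ι F) : Matrix ι ι F)) * (y : Matrix ι ι F) := by
          rw [h3, Matrix.mul_one]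
  intro k hk
  rw [← key]
  exact ⟨k, hk, rfl⟩

end field

section bridge

variable {F : Type} [Field F] [Fintype F] {V : Type v} [AddCommGroup V] [Module F V] [FiniteDimensional F V]
  {Q : QuadraticForm F V} {H : Subgroup (V ≃ₗ[F] V)}

/-- squares of isometries are in `Ω`. -/
theorem sq_mem_E' (hG : Good Q) {g : V ≃ₗ[F] V} (hg : g ∈ O Q) : g * g ∈ E Q := by
  have hcl := O_eq_closure hG.nondeg
  rw [hcl] at hg
  induction hg using Subgroup.closure_induction with
  | mem g hg =>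
    rcases hg with ⟨v, hv, rfl⟩ | ⟨u, w, hu, hw, rfl⟩
    · rw [refl_mul_self]
      exact one_mem _
    · exact mul_mem (siegel_mem_E hu hw) (siegel_mem_E hu hw)
  | one => rw [mul_one]; exact one_mem _
  | mul a b ha hb iha ihb =>
    rw [← hcl] at ha hb
    have e : a * b * (a * b) = (a * a) * ⁅a⁻¹, b⁆ * (b * b) := by
      simp only [commutatorElement_def]
      group
    rw [e]
    exact mul_mem (mul_mem iha (hG.commutator_le_E
      (Subgroup.commutator_mem_commutator (inv_mem ha) hb))) ihb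
  | inv a _ iha =>
    have e : a⁻¹ * a⁻¹ = (a * a)⁻¹ := by group
    rw [e]
    exact inv_mem iha

/-- isometries of odd order are in `Ω`. -/
theorem mem_E_of_odd' (hG : Good Q) {g : V ≃ₗ[F] V} (hg : g ∈ O Q) {n : ℕ} (hn : Odd n) (h : g ^ n = 1) : g ∈ E Q := by
  obtain ⟨m, rfl⟩ := hn
  have e : g = ((g * g) ^ m)⁻¹ := by
    rw [eq_inv_iff_mul_eq_one, ← pow_two, ← pow_mul, ← pow_succ', h]
  rw [e]
  exact inv_mem (pow_mem (sq_mem_E' hG hg) m)

theorem bundle_eq {ι : Type} [Fintype ι] [DecidableEq ι] (Q : QuadraticForm F (ι → F))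
    (hQ : IsNondegenerateQuadraticForm (⇑Q)) : H884.OmegaGL.bundle (⇑Q) hQ = Q := QuadraticMap.ext fun _ => rfl

theorem mem_om {ι : Type} [Fintype ι] [DecidableEq ι] {Q : QuadraticForm F (ι → F)} (hQ : Nondeg Q)
    (hn : 5 ≤ Fintype.card ι) (g : GL ι F) : g ∈ omegaGL (⇑Q) ↔ glEquiv ι F g ∈ E Q := by
  have h := H884.OddForm.isNondegenerate_of_nondeg Q hQ
  rw [H884.OmegaGL.mem_omegaGL _ h hn, bundle_eq]

/-- `Ω` in coordinates -/
theorem E_le_of_om {n : ℕ} (hn : 5 ≤ n) (hQ : Nondeg Q) (φ : V ≃ₗ[F] (Fin n → F))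
    (h : omegaGL (⇑(tq Q φ)) ≤ H.map (cj φ).toMonoidHom) : E Q ≤ H := by
  have hQ' := nondeg_tq hQ φ
  rw [E, Subgroup.closure_le]
  rintro _ ⟨u, w, hu, hw, rfl⟩
  have hu' : (tq Q φ) (φ u) = 0 := by
    rw [tq_apply, φ.symm_apply_apply, hu]
  have hw' : polar (tq Q φ) (φ u) (φ w) = 0 := by
    rw [polar_tq, φ.symm_apply_apply, φ.symm_apply_apply, hw]
  have h1 : cj φ (siegel Q u w hu hw) ∈ omegaGL (⇑(tq Q φ)) := by
    rw [mem_om hQ' (by rw [Fintype.card_fin]; exact hn)]
    have h2 : glEquiv (Fin n) F (cj φ (siegel Q u w hu hw)) = siegel _ (φ u) (φ w) hu' hw' := by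
      apply LinearEquiv.ext
      intro v
      rw [glEquiv_apply, siegel_apply, cj_apply, siegel_apply, map_sub, map_sub, map_add, map_smul, map_smul, map_smul,
        φ.apply_symm_apply]
      have e1 : ∀ a b : V, polar (tq Q φ) (φ a) (φ b) = polar Q a b := by
        intro a b
        rw [polar_tq, φ.symm_apply_apply, φ.symm_apply_apply]
      have e2 : (tq Q φ) (φ w) = Q w := by
        rw [tq_apply, φ.symm_apply_apply]
      have e3 : v = φ (φ.symm v) := (φ.apply_symm_apply v).symm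
      rw [e2]
      conv_rhs => rw [e3, e1, e1]
      rw [φ.apply_symm_apply]
    rw [h2]
    exact siegel_mem_E hu' hw'
  obtain ⟨x, hx, hxe⟩ := h h1
  have : x = siegel Q u w hu hw := (cj φ).injective hxe
  rw [← this]
  exact hx

/-- (T8) dimension eight, `q ≥ 5`, `r_8` -/
theorem lo_eight {p f r a : ℕ} (hp : p.Prime) (hF : Fintype.card F = p ^ f) (h5 : 5 ≤ p ^ f) (hQ : Nondeg Q)
    (hn : finrank F V = 8) (hH : H ≤ O Q) {g : V ≃ₗ[F] V} (hg : g ∈ H) (hr : PP p (f * 8) r) (ho : orderOf g = r ^ a)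
    (hbig : 17 < r ^ a) : AExt 2 H ∨ E Q ≤ H := by
  let φ : V ≃ₗ[F] (Fin 8 → F) := LinearEquiv.ofFinrankEq _ _ (by rw [Module.finrank_fintype_fun_eq_card, Fintype.card_fin, hn])
  have hQ' := nondeg_tq hQ φ
  set Q' := tq Q φ with hQ'def
  have hcard8 : 5 ≤ Fintype.card (Fin 8) := by rw [Fintype.card_fin]; norm_num
  -- the numbers
  have hf : 1 ≤ f := by
    rcases Nat.eq_zero_or_pos f with h | h
    · rw [h, pow_zero] at h5; omega
    · exact h
  have hcF : Nat.card F = p ^ f := by rw [Nat.card_eq_fintype_card, hF]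
  have ha : 1 ≤ a := by
    rcases Nat.eq_zero_or_pos a with h | h
    · rw [h, pow_zero] at hbig; omega
    · exact h
  obtain ⟨N, r3, hnum⟩ : ∃ N r3, H975.Cov.Num F p f r N r3 := by
    obtain ⟨r3, h3, h3f⟩ := H975.Cov.exists_r3 hp hf hcF
    obtain ⟨r6, h6⟩ := exists_ppp (e := 6) hp hf (by norm_num) (by omega) (fun b hb => by omega)
    exact ⟨r6, r3, hp, hf, hcF, hr, h3, h3f, Or.inr ⟨by omega, h6⟩⟩
  -- the element of order `r`
  set y : V ≃ₗ[F] V := g ^ r ^ (a - 1) with hy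
  have hyH : y ∈ H := H.pow_mem hg _
  have hyo : orderOf y = r := by
    rw [hy, orderOf_pow' g (pow_ne_zero _ hr.prime.ne_zero), ho]
    have h1 : Nat.gcd (r ^ a) (r ^ (a - 1)) = r ^ (a - 1) :=
      Nat.gcd_eq_right (pow_dvd_pow r (Nat.sub_le a 1))
    rw [h1, Nat.pow_div (Nat.sub_le a 1) hr.prime.pos, Nat.sub_sub_self ha, pow_one]
  set b : GL (Fin 8) F := cj φ y with hb
  have hbo : orderOf b = r := by rw [hb, MulEquiv.orderOf_eq, hyo]
  have hbI : b ∈ Cfsg.isometryGroup F (⇑Q') := cj_iso φ (hH hyH)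
  have hirr := H975.Cov.a_irr hQ' hnum.h8q hbI hbo
  have hodd : Odd r := hnum.h8q.odd (by norm_num)
  -- `Q'` is of minus type
  have hP : ¬ IsPlus Q' := by
    obtain ⟨hiso, hb1⟩ := H975.Cov.iso_of hnum.h8q (by norm_num) hbI hbo
    obtain ⟨hcm, hcP⟩ := hiso.even_case hQ' hb1 hnum.h8q (by decide) (by rw [Module.finrank_fintype_fun_eq_card, Fintype.card_fin]; norm_num)
    have hcmt : cm (lin b) = ⊤ := Submodule.eq_top_of_finrank_eq (by
      rw [hcm, Module.finrank_fintype_fun_eq_card, Fintype.card_fin])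
    rw [hcmt] at hcP
    exact fun h => hcP ((isPlus_iff_of_equiv (Submodule.topEquiv) fun _ => rfl).2 h)
  set Hm : Subgroup (GL (Fin 8) F) := H.map (cj φ).toMonoidHom with hHm
  have hmO : ∀ x ∈ Hm, glEquiv (Fin 8) F x ∈ O Q' := by
    rintro _ ⟨x, hx, rfl⟩
    rw [mem_O]
    intro v
    have h1 := LieClassical.OrthFinite.mem_isometryGroup_iff.1 (cj_iso φ (hH hx)) v
    rw [glEquiv_apply]
    exact h1
  by_cases hle : omegaGL (⇑Q') ≤ Hm
  · exact Or.inr (E_le_of_om (by norm_num) hQ φ hle)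
  left
  have hlt : Hm ⊓ omegaGL (⇑Q') < omegaGL (⇑Q') := lt_of_le_of_ne inf_le_right fun h => hle (by rw [← h]; exact inf_le_left)
  obtain ⟨M, hM, hHM⟩ := H905.exists_isMaximalIn_of_lt hlt
  have hbm : b ∈ Hm := ⟨y, hyH, rfl⟩
  have hbO : b ∈ omegaGL (⇑Q') := by
    rw [mem_om hQ' hcard8]
    refine mem_E_of_odd' (LieClassical.OrthFinite.good_of_finite hQ' (by rw [Module.finrank_fintype_fun_eq_card]; exact hcard8)) (hmO b hbm)
      hodd ?_
    rw [← map_pow, ← hbo, pow_orderOf_eq_one, map_one]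
  obtain ⟨K, hK, hMK⟩ := H975.Cov.a_case hnum hQ' hP hM (hHM ⟨hbm, hbO⟩) hbo
  refine ⟨8, φ, K, Nat.prime_two, hK, ?_⟩
  refine le_normalizer hK (N := Hm ⊓ omegaGL (⇑Q')) ?_ (hHM.trans hMK) ⟨hbm, hbO⟩ ?_ ?_
  · rintro h hh x ⟨hx, hxO⟩
    refine ⟨Hm.mul_mem (Hm.mul_mem hh hx) (Hm.inv_mem hh), ?_⟩
    have h1 := (mem_om hQ' hcard8 x).1 hxO
    refine (mem_om hQ' hcard8 _).2 ?_
    rw [map_mul, map_mul, map_inv]
    exact conj_mem_E (hmO h hh) h1
  · rw [hbo]
    exact Nat.coprime_two_right.2 hodd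
  · intro W hW
    exact hirr W hW

end bridge

end Cfsg.Agent.H735.Rg
end
end
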